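import Cfsg.Agent.H913.Q5.RowLy
import Cfsg.Agent.H35.Q5.EqA

/-!
# S5211, block q = 5: the row of the Lyons group (final)
-/

set_option autoImplicit false

namespace Cfsg.Agent.H913.Q5

open Cfsg Cfsg.Agent.H24.Q5

/-- **Row `Ly`** -/
theorem stRowLy : StRowLy := stRowLy_of (fun M hM z hz h => H35.Q5.eq_A5 M hM z hz h)

end Cfsg.Agent.H913.Q5
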