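import Mathlib

/-!
# A group generated by two commuting pairs with commutators in a central group of order 5 (abstract part of the row `B`)
-/

set_option autoImplicit false

namespace Cfsg.Agent.H913.Q5

open Subgroup

section rule

variable {G : Type*} [Group G]

theorem rule_one {a b v : G} {κ : ℤ} (h : a * b = v ^ κ * b * a) (ha : Commute a v) (i : ℤ) :
    a ^ i * b * (a ^ i)⁻¹ = v ^ (κ * i) * b := by
  have h1 : MulAut.conj a b = v ^ κ * b := by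
    rw [MulAut.conj_apply, h, mul_inv_cancel_right]
  have hv : ∀ n m : ℤ, MulAut.conj (a ^ n) (v ^ m) = v ^ m := by
    intro n m
    rw [MulAut.conj_apply, ((ha.zpow_zpow n m)).eq, mul_inv_cancel_right]
  have h2 : MulAut.conj a⁻¹ b = v ^ (-κ) * b := by
    have h3 : MulAut.conj a⁻¹ (MulAut.conj a b) = b := by
      rw [← MulAut.mul_apply, ← map_mul, inv_mul_cancel, map_one, MulAut.one_apply]
    rw [h1, map_mul] at h3
    have h4 := hv (-1) κ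
    rw [zpow_neg_one] at h4
    rw [h4] at h3
    rw [zpow_neg, eq_inv_mul_iff_mul_eq, h3]
  show MulAut.conj (a ^ i) b = v ^ (κ * i) * b
  induction i with
  | zero => simp
  | succ n ih =>
    rw [zpow_add_one, map_mul, MulAut.mul_apply, h1, map_mul, ih, hv, ← mul_assoc, ← zpow_add]
    congr 2
    ring
  | pred n ih =>
    rw [zpow_sub_one, map_mul, MulAut.mul_apply, h2, map_mul, ih, hv, ← mul_assoc, ← zpow_add]
    congr 2
    ring

theorem rule {a b v : G} {κ : ℤ} (h : a * b = v ^ κ * b * a) (ha : Commute a v) (hb : Commute b v) (i j : ℤ) :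
    a ^ i * b ^ j = v ^ (κ * i * j) * (b ^ j * a ^ i) := by
  have h1 := rule_one h ha i
  have h2 : a ^ i * b ^ j * (a ^ i)⁻¹ = v ^ (κ * i * j) * b ^ j := by
    rw [← conj_zpow, h1, ((hb.zpow_right (κ * i)).symm).mul_zpow, ← zpow_mul]
  rw [← mul_assoc, ← h2, inv_mul_cancel_right]

end rule

/-- the data: `v` of order 5, `[a,b] ∈ <v>` nontrivial, `[c,d] ∈ <v>` nontrivial, everything else commutes -/
structure Ext5 {G : Type*} [Group G] (v a b c d : G) (κ l : ℤ) : Prop where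
  v_ne : v ≠ 1
  v5 : v ^ 5 = 1
  a5 : a ^ 5 = 1
  b5 : b ^ 5 = 1
  c5 : c ^ 5 = 1
  d5 : d ^ 5 = 1
  av : Commute a v
  bv : Commute b v
  cv : Commute c v
  dv : Commute d v
  k5 : ¬ (5 : ℤ) ∣ κ
  l5 : ¬ (5 : ℤ) ∣ l
  ab : a * b = v ^ κ * b * a
  cd : c * d = v ^ l * d * c
  ac : Commute a c
  ad : Commute a d
  bc : Commute b c
  bd : Commute b d

namespace Ext5

variable {G : Type*} [Group G] {v a b c d : G} {κ l : ℤ}

/-- normal forms -/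
def nf (v a b c d : G) (x : ℤ × ℤ × ℤ × ℤ × ℤ) : G :=
  a ^ x.1 * b ^ x.2.1 * (c ^ x.2.2.1 * d ^ x.2.2.2.1) * v ^ x.2.2.2.2

section

variable (E : Ext5 v a b c d κ l)

include E

theorem nf_mul (i j k n m i' j' k' n' m' : ℤ) :
    nf v a b c d (i, j, k, n, m) * nf v a b c d (i', j', k', n', m') =
      nf v a b c d (i + i', j + j', k + k', n + n', m + m' - κ * i' * j - l * k' * n) := by
  have h1 : b ^ j * a ^ i' = v ^ (-(κ * i' * j)) * (a ^ i' * b ^ j) := by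
    rw [rule E.ab E.av E.bv i' j, ← mul_assoc, ← zpow_add, neg_add_cancel, zpow_zero, one_mul]
  have h2 : d ^ n * c ^ k' = v ^ (-(l * k' * n)) * (c ^ k' * d ^ n) := by
    rw [rule E.cd E.cv E.dv k' n, ← mul_assoc, ← zpow_add, neg_add_cancel, zpow_zero, one_mul]
  have cA : ∀ s t : ℤ, v ^ s * a ^ t = a ^ t * v ^ s := fun s t => (E.av.zpow_zpow t s).symm.eq
  have cB : ∀ s t : ℤ, v ^ s * b ^ t = b ^ t * v ^ s := fun s t => (E.bv.zpow_zpow t s).symm.eq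
  have cC : ∀ s t : ℤ, v ^ s * c ^ t = c ^ t * v ^ s := fun s t => (E.cv.zpow_zpow t s).symm.eq
  have cD : ∀ s t : ℤ, v ^ s * d ^ t = d ^ t * v ^ s := fun s t => (E.dv.zpow_zpow t s).symm.eq
  have ac : ∀ s t : ℤ, c ^ s * a ^ t = a ^ t * c ^ s := fun s t => (E.ac.zpow_zpow t s).symm.eq
  have ad : ∀ s t : ℤ, d ^ s * a ^ t = a ^ t * d ^ s := fun s t => (E.ad.zpow_zpow t s).symm.eq
  have bc : ∀ s t : ℤ, c ^ s * b ^ t = b ^ t * c ^ s := fun s t => (E.bc.zpow_zpow t s).symm.eq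
  have bd : ∀ s t : ℤ, d ^ s * b ^ t = b ^ t * d ^ s := fun s t => (E.bd.zpow_zpow t s).symm.eq
  simp only [nf]
  calc a ^ i * b ^ j * (c ^ k * d ^ n) * v ^ m * (a ^ i' * b ^ j' * (c ^ k' * d ^ n') * v ^ m')
      = a ^ i * b ^ j * (c ^ k * d ^ n) * (v ^ m * a ^ i') * b ^ j' * (c ^ k' * d ^ n') * v ^ m' := by
        simp only [mul_assoc]
    _ = a ^ i * b ^ j * c ^ k * (d ^ n * a ^ i') * (v ^ m * b ^ j') * (c ^ k' * d ^ n') * v ^ m' := by
        rw [cA]; simp only [mul_assoc]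
    _ = a ^ i * b ^ j * (c ^ k * a ^ i') * (d ^ n * b ^ j') * (v ^ m * c ^ k') * d ^ n' * v ^ m' := by
        rw [ad, cB]; simp only [mul_assoc]
    _ = a ^ i * (b ^ j * a ^ i') * (c ^ k * b ^ j') * (d ^ n * c ^ k') * (v ^ m * d ^ n') * v ^ m' := by
        rw [ac, bd, cC]; simp only [mul_assoc]
    _ = a ^ i * (v ^ (-(κ * i' * j)) * (a ^ i' * b ^ j)) * (b ^ j' * c ^ k) * (v ^ (-(l * k' * n)) * (c ^ k' * d ^ n)) *
        (d ^ n' * v ^ m) * v ^ m' := by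
        rw [h1, h2, bc, cD]
    _ = (a ^ i * v ^ (-(κ * i' * j))) * a ^ i' * (b ^ j * b ^ j') * (c ^ k * v ^ (-(l * k' * n))) * c ^ k' * (d ^ n * d ^ n') *
        (v ^ m * v ^ m') := by simp only [mul_assoc]
    _ = v ^ (-(κ * i' * j)) * (a ^ i * a ^ i' * (b ^ j * b ^ j') * (v ^ (-(l * k' * n)) * (c ^ k * c ^ k' * (d ^ n * d ^ n') *
        (v ^ m * v ^ m')))) := by
        rw [← cA, ← cC]; simp only [mul_assoc]
    _ = a ^ i * a ^ i' * (b ^ j * b ^ j') * (c ^ k * c ^ k' * (d ^ n * d ^ n')) * (v ^ m * v ^ m' * v ^ (-(κ * i' * j)) *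
        v ^ (-(l * k' * n))) := by
        have hc : ∀ (s : ℤ) (g : G), Commute g v → v ^ s * g = g * v ^ s := fun s g hg => (hg.zpow_right s).symm.eq
        have g1 : Commute (a ^ i * a ^ i' * (b ^ j * b ^ j')) v :=
          ((E.av.zpow_left _).mul_left (E.av.zpow_left _)).mul_left ((E.bv.zpow_left _).mul_left (E.bv.zpow_left _))
        have g2 : Commute (c ^ k * c ^ k' * (d ^ n * d ^ n')) v :=
          ((E.cv.zpow_left _).mul_left (E.cv.zpow_left _)).mul_left ((E.dv.zpow_left _).mul_left (E.dv.zpow_left _))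
        have g3 : Commute (v ^ m * v ^ m') v :=
          ((Commute.refl v).zpow_left _).mul_left ((Commute.refl v).zpow_left _)
        have g4 := hc (-(l * k' * n)) _ (g2.mul_left g3)
        rw [g4]
        have g5 := hc (-(κ * i' * j)) _ (g1.mul_left ((g2.mul_left g3).mul_left ((Commute.refl v).zpow_left (-(l * k' * n)))))
        rw [g5]
        have g6 : v ^ (-(l * k' * n)) * v ^ (-(κ * i' * j)) = v ^ (-(κ * i' * j)) * v ^ (-(l * k' * n)) := by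
          rw [← zpow_add, ← zpow_add, add_comm]
        simp only [mul_assoc] at g6 ⊢
        rw [g6]
    _ = _ := by
        rw [← zpow_add, ← zpow_add, ← zpow_add, ← zpow_add, ← zpow_add, ← zpow_add, ← zpow_add]
        rfl

omit E in
theorem nf_zero : nf v a b c d (0, 0, 0, 0, 0) = 1 := by simp [nf]

/-- the group `E` -/
def grp : Subgroup G where
  carrier := Set.range (nf v a b c d)
  one_mem' := ⟨_, nf_zero⟩
  mul_mem' := by
    rintro _ _ ⟨⟨i, j, k, n, m⟩, rfl⟩ ⟨⟨i', j', k', n', m'⟩, rfl⟩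
    exact ⟨_, (E.nf_mul i j k n m i' j' k' n' m').symm⟩
  inv_mem' := by
    rintro _ ⟨⟨i, j, k, n, m⟩, rfl⟩
    refine ⟨(-i, -j, -k, -n, -m + κ * (-i) * j + l * (-k) * n), eq_inv_of_mul_eq_one_right ?_⟩
    rw [E.nf_mul, ← nf_zero (v := v) (a := a) (b := b) (c := c) (d := d)]
    congr 1
    refine Prod.ext (by simp) (Prod.ext (by simp) (Prod.ext (by simp) (Prod.ext (by simp) ?_)))
    show m + (-m + κ * (-i) * j + l * (-k) * n) - κ * (-i) * j - l * (-k) * n = 0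
    ring

theorem mem_grp {g : G} : g ∈ E.grp ↔ ∃ x, nf v a b c d x = g := Iff.rfl

theorem a_mem : a ∈ E.grp := ⟨(1, 0, 0, 0, 0), by simp [nf]⟩
theorem b_mem : b ∈ E.grp := ⟨(0, 1, 0, 0, 0), by simp [nf]⟩
theorem c_mem : c ∈ E.grp := ⟨(0, 0, 1, 0, 0), by simp [nf]⟩
theorem d_mem : d ∈ E.grp := ⟨(0, 0, 0, 1, 0), by simp [nf]⟩
theorem v_mem : v ∈ E.grp := ⟨(0, 0, 0, 0, 1), by simp [nf]⟩

theorem le_of {H : Subgroup G} (ha : a ∈ H) (hb : b ∈ H) (hc : c ∈ H) (hd : d ∈ H) (hv : v ∈ H) : E.grp ≤ H := by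
  rintro _ ⟨⟨i, j, k, n, m⟩, rfl⟩
  exact mul_mem (mul_mem (mul_mem (zpow_mem ha _) (zpow_mem hb _)) (mul_mem (zpow_mem hc _) (zpow_mem hd _)))
    (zpow_mem hv _)

theorem nf_comm (x y : ℤ × ℤ × ℤ × ℤ × ℤ) : nf v a b c d x * nf v a b c d y =
    v ^ (κ * (x.1 * y.2.1 - y.1 * x.2.1) + l * (x.2.2.1 * y.2.2.2.1 - y.2.2.1 * x.2.2.2.1)) *
      (nf v a b c d y * nf v a b c d x) := by
  obtain ⟨i, j, k, n, m⟩ := x
  obtain ⟨i', j', k', n', m'⟩ := y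
  have hc : ∀ (s : ℤ) (x : ℤ × ℤ × ℤ × ℤ × ℤ), v ^ s * nf v a b c d x =
      nf v a b c d (x.1, x.2.1, x.2.2.1, x.2.2.2.1, s + x.2.2.2.2) := by
    rintro s ⟨i, j, k, n, m⟩
    have h := E.nf_mul 0 0 0 0 s i j k n m
    simp only [zero_add, mul_zero, sub_zero] at h
    rw [← h]
    simp [nf]
  rw [E.nf_mul, E.nf_mul, hc]
  congr 1
  refine Prod.ext (by simp; ring) (Prod.ext (by simp; ring) (Prod.ext (by simp; ring) (Prod.ext (by simp; ring) ?_)))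
  show _ = κ * (i * j' - i' * j) + l * (k * n' - k' * n) + _
  simp only
  ring

/-- commutators -/
theorem comm {x y : G} (hx : x ∈ E.grp) (hy : y ∈ E.grp) : x * y * x⁻¹ * y⁻¹ ∈ zpowers v := by
  obtain ⟨x, rfl⟩ := hx
  obtain ⟨y, rfl⟩ := hy
  refine ⟨κ * (x.1 * y.2.1 - y.1 * x.2.1) + l * (x.2.2.1 * y.2.2.2.1 - y.2.2.1 * x.2.2.2.1), ?_⟩
  have h := E.nf_comm x y
  generalize κ * (x.1 * y.2.1 - y.1 * x.2.1) + l * (x.2.2.1 * y.2.2.2.1 - y.2.2.1 * x.2.2.2.1) = s at h ⊢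
  show v ^ s = _
  rw [h]
  group

theorem order_v : orderOf v = 5 := by
  have : Fact (Nat.Prime 5) := ⟨by norm_num⟩
  exact orderOf_eq_prime E.v5 E.v_ne

theorem dvd_of {s t : ℤ} (h : v ^ s = v ^ t) : (5 : ℤ) ∣ s - t := by
  have h1 := orderOf_dvd_sub_iff_zpow_eq_zpow.2 h
  rwa [E.order_v] at h1

omit [Group G] E in
theorem five {r s : ℤ} (hr : ¬ (5 : ℤ) ∣ r) (h : (5 : ℤ) ∣ r * s) : (5 : ℤ) ∣ s :=
  (Int.Prime.dvd_mul' (by norm_num : Nat.Prime 5) h).resolve_left hr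

theorem nf_inj {x y : ℤ × ℤ × ℤ × ℤ × ℤ} (h : nf v a b c d x = nf v a b c d y) :
    (5 : ℤ) ∣ x.1 - y.1 ∧ (5 : ℤ) ∣ x.2.1 - y.2.1 ∧ (5 : ℤ) ∣ x.2.2.1 - y.2.2.1 ∧
      (5 : ℤ) ∣ x.2.2.2.1 - y.2.2.2.1 := by
  have key : ∀ z : ℤ × ℤ × ℤ × ℤ × ℤ, (5 : ℤ) ∣ (κ * (x.1 * z.2.1 - z.1 * x.2.1) +
      l * (x.2.2.1 * z.2.2.2.1 - z.2.2.1 * x.2.2.2.1)) - (κ * (y.1 * z.2.1 - z.1 * y.2.1) +
      l * (y.2.2.1 * z.2.2.2.1 - z.2.2.1 * y.2.2.2.1)) := by
    intro z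
    have h1 := E.nf_comm x z
    have h2 := E.nf_comm y z
    rw [h, h2] at h1
    exact E.dvd_of (mul_right_cancel h1).symm
  refine ⟨?_, ?_, ?_, ?_⟩
  · refine five E.k5 (s := x.1 - y.1) ?_
    have h1 := key (0, 1, 0, 0, 0)
    simp only at h1
    rwa [show κ * (x.1 - y.1) = κ * (x.1 * 1 - 0 * x.2.1) + l * (x.2.2.1 * 0 - 0 * x.2.2.2.1) -
      (κ * (y.1 * 1 - 0 * y.2.1) + l * (y.2.2.1 * 0 - 0 * y.2.2.2.1)) by ring]
  · refine five E.k5 (s := x.2.1 - y.2.1) ?_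
    have h1 := key (-1, 0, 0, 0, 0)
    simp only at h1
    rwa [show κ * (x.2.1 - y.2.1) = κ * (x.1 * 0 - -1 * x.2.1) + l * (x.2.2.1 * 0 - 0 * x.2.2.2.1) -
      (κ * (y.1 * 0 - -1 * y.2.1) + l * (y.2.2.1 * 0 - 0 * y.2.2.2.1)) by ring]
  · refine five E.l5 (s := x.2.2.1 - y.2.2.1) ?_
    have h1 := key (0, 0, 0, 1, 0)
    simp only at h1
    rwa [show l * (x.2.2.1 - y.2.2.1) = κ * (x.1 * 0 - 0 * x.2.1) + l * (x.2.2.1 * 1 - 0 * x.2.2.2.1) -
      (κ * (y.1 * 0 - 0 * y.2.1) + l * (y.2.2.1 * 1 - 0 * y.2.2.2.1)) by ring]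
  · refine five E.l5 (s := x.2.2.2.1 - y.2.2.2.1) ?_
    have h1 := key (0, 0, -1, 0, 0)
    simp only at h1
    rwa [show l * (x.2.2.2.1 - y.2.2.2.1) = κ * (x.1 * 0 - 0 * x.2.1) + l * (x.2.2.1 * 0 - -1 * x.2.2.2.1) -
      (κ * (y.1 * 0 - 0 * y.2.1) + l * (y.2.2.1 * 0 - -1 * y.2.2.2.1)) by ring]

/-- the parametrization -/
def par (x : Fin 5 × Fin 5 × Fin 5 × Fin 5 × Fin 5) : E.grp :=
  ⟨nf v a b c d ((x.1 : ℕ), (x.2.1 : ℕ), (x.2.2.1 : ℕ), (x.2.2.2.1 : ℕ), (x.2.2.2.2 : ℕ)), _, rfl⟩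

omit E in
theorem fin_eq {s t : Fin 5} (h : (5 : ℤ) ∣ ((s : ℕ) : ℤ) - (t : ℕ)) : s = t := by
  apply Fin.ext
  have := s.2; have := t.2
  omega

omit E in
theorem pow_fin {g : G} (hg : g ^ 5 = 1) (s : ℤ) : ∃ t : Fin 5, g ^ ((t : ℕ) : ℤ) = g ^ s := by
  have h0 : (0 : ℤ) ≤ s % 5 := Int.emod_nonneg _ (by norm_num)
  have h1 : s % 5 < 5 := Int.emod_lt_of_pos _ (by norm_num)
  refine ⟨⟨(s % 5).toNat, by omega⟩, ?_⟩
  show g ^ (((s % 5).toNat : ℕ) : ℤ) = g ^ s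
  rw [Int.toNat_of_nonneg h0]
  exact (zpow_eq_zpow_emod s (n := 5) (by exact_mod_cast hg)).symm

theorem par_bij : Function.Bijective E.par := by
  constructor
  · rintro ⟨i, j, k, n, m⟩ ⟨i', j', k', n', m'⟩ h
    have h1 : nf v a b c d ((i : ℕ), (j : ℕ), (k : ℕ), (n : ℕ), (m : ℕ)) =
        nf v a b c d ((i' : ℕ), (j' : ℕ), (k' : ℕ), (n' : ℕ), (m' : ℕ)) := congrArg Subtype.val h
    obtain ⟨e1, e2, e3, e4⟩ := E.nf_inj h1
    obtain rfl := fin_eq e1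
    obtain rfl := fin_eq e2
    obtain rfl := fin_eq e3
    obtain rfl := fin_eq e4
    have h2 : v ^ ((m : ℕ) : ℤ) = v ^ ((m' : ℕ) : ℤ) := mul_left_cancel h1
    obtain rfl := fin_eq (E.dvd_of h2)
    rfl
  · rintro ⟨_, ⟨i, j, k, n, m⟩, rfl⟩
    obtain ⟨i', hi⟩ := pow_fin E.a5 i
    obtain ⟨j', hj⟩ := pow_fin E.b5 j
    obtain ⟨k', hk⟩ := pow_fin E.c5 k
    obtain ⟨n', hn⟩ := pow_fin E.d5 n
    obtain ⟨m', hm⟩ := pow_fin E.v5 m
    refine ⟨(i', j', k', n', m'), Subtype.ext ?_⟩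
    show a ^ ((i' : ℕ) : ℤ) * b ^ ((j' : ℕ) : ℤ) * (c ^ ((k' : ℕ) : ℤ) * d ^ ((n' : ℕ) : ℤ)) * v ^ ((m' : ℕ) : ℤ) =
      a ^ i * b ^ j * (c ^ k * d ^ n) * v ^ m
    rw [hi, hj, hk, hn, hm]

theorem card_grp : Nat.card E.grp = 3125 := by
  rw [← Nat.card_congr (Equiv.ofBijective _ E.par_bij)]
  rw [Nat.card_eq_fintype_card]
  simp only [Fintype.card_prod, Fintype.card_fin]

/-- an element that maps the generators into `E` normalizes `E` -/
theorem mem_normalizer {w : G} (hfin : Finite G) (ha : w * a * w⁻¹ ∈ E.grp) (hb : w * b * w⁻¹ ∈ E.grp)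
    (hc : w * c * w⁻¹ ∈ E.grp) (hd : w * d * w⁻¹ ∈ E.grp) (hv : w * v * w⁻¹ ∈ E.grp) :
    w ∈ Subgroup.normalizer (E.grp : Set G) := by
  have h1 : E.grp.map (MulAut.conj w).toMonoidHom ≤ E.grp := by
    rw [Subgroup.map_le_iff_le_comap]
    exact E.le_of ha hb hc hd hv
  have h2 : E.grp.map (MulAut.conj w).toMonoidHom = E.grp := by
    apply Subgroup.eq_of_le_of_card_ge h1
    rw [Subgroup.card_map_of_injective (MulAut.conj w).injective]
  rw [Subgroup.mem_normalizer_iff]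
  intro g
  constructor
  · intro hg
    exact h1 ⟨g, hg, rfl⟩
  · intro hg
    rw [← h2] at hg
    obtain ⟨g', hg', e⟩ := hg
    have e' : w * g' * w⁻¹ = w * g * w⁻¹ := e
    rwa [← mul_left_cancel (mul_right_cancel e')]

/-- **3 divides the order of the automizer** -/
theorem three_dvd {w : G} (hfin : Finite G) (w3 : w ^ 3 = 1) (ha : w * a * w⁻¹ ∈ E.grp) (hb : w * b * w⁻¹ ∈ E.grp)
    (hc : w * c * w⁻¹ ∈ E.grp) (hd : w * d * w⁻¹ ∈ E.grp) (hv : w * v * w⁻¹ ∈ E.grp) (hne : w * a ≠ a * w) :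
    3 ∣ (centralizer (E.grp : Set G)).relIndex (normalizer (E.grp : Set G)) := by
  have hw := E.mem_normalizer hfin ha hb hc hd hv
  have hnor : ((centralizer (E.grp : Set G)).subgroupOf (normalizer (E.grp : Set G))).Normal := by
    constructor
    rintro ⟨n, hn⟩ hn' ⟨g, hg⟩
    rw [Subgroup.mem_subgroupOf] at hn' ⊢
    rw [Subgroup.mem_centralizer_iff] at hn' ⊢
    intro h hh
    show h * (g * n * g⁻¹) = g * n * g⁻¹ * h
    have h1 : g⁻¹ * h * g ∈ E.grp := by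
      have h2 := (Subgroup.mem_normalizer_iff.1 (inv_mem hg) h).1 hh
      rwa [inv_inv] at h2
    have h2 := hn' _ h1
    have h3 : g⁻¹ * h * g * n = n * (g⁻¹ * h * g) := h2
    calc h * (g * n * g⁻¹) = g * (g⁻¹ * h * g * n) * g⁻¹ := by group
      _ = g * (n * (g⁻¹ * h * g)) * g⁻¹ := by rw [h3]
      _ = g * n * g⁻¹ * h := by group
  let N := normalizer (E.grp : Set G)
  let C := (centralizer (E.grp : Set G)).subgroupOf N
  have hcard : (centralizer (E.grp : Set G)).relIndex (normalizer (E.grp : Set G)) = Nat.card (N ⧸ C) := rfl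
  rw [hcard]
  let q : N ⧸ C := QuotientGroup.mk ⟨w, hw⟩
  have hq3 : q ^ 3 = 1 := by
    show (QuotientGroup.mk (⟨w, hw⟩ ^ 3 : N) : N ⧸ C) = 1
    rw [show (⟨w, hw⟩ ^ 3 : N) = 1 from Subtype.ext w3]
    rfl
  have hq1 : q ≠ 1 := by
    intro h
    have h1 : (⟨w, hw⟩ : N) ∈ C := (QuotientGroup.eq_one_iff _).1 h
    have h2 : w ∈ centralizer (E.grp : Set G) := h1
    exact hne ((Subgroup.mem_centralizer_iff.1 h2 a E.a_mem).symm)
  have : Fact (Nat.Prime 3) := ⟨by norm_num⟩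
  rw [← orderOf_eq_prime hq3 hq1]
  exact orderOf_dvd_natCard q

end

end Ext5

end Cfsg.Agent.H913.Q5
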