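import Cfsg.Agent.H913.Q5.QGEq
import Cfsg.Agent.H913.Q5.ExtraFive
import Cfsg.Agent.H792.Sp.BFive

/-!
# S5211, block q = 5: the row of the Baby Monster, from the row of `HN` and an element of order 3
-/

set_option autoImplicit false

namespace Cfsg.Agent.H913.Q5

open Cfsg Cfsg.Agent.H24.Q5 Cfsg.Agent.H779.G2

/-- **Row `B`** -/
theorem stRowB_of
    (hHN : ∃ (T : Sylow 5 Cfsg.Spor.HN) (e : (T : Subgroup Cfsg.Spor.HN) ≃* U5), Loc Cfsg.Spor.HN T e ∧ 128 ∣ autN T e)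
    (hB : ∃ (v a b c d w : Cfsg.Spor.BabyMonster) (κ l : ℤ) (E : Ext5 v a b c d κ l), w ^ 3 = 1 ∧
      w * a * w⁻¹ ∈ E.grp ∧ w * b * w⁻¹ ∈ E.grp ∧ w * c * w⁻¹ ∈ E.grp ∧ w * d * w⁻¹ ∈ E.grp ∧
      w * v * w⁻¹ ∈ E.grp ∧ w * a ≠ a * w) : StRowB := by
  obtain ⟨T, e, hloc, h128⟩ := hHN
  obtain ⟨v, a, b, c, d, w, κ, l, E, w3, ha, hb, hc, hd, hv, hne⟩ := hB
  obtain ⟨j, hj⟩ := H792.SpBFive.exists_hom
  have hcard : Nat.card Cfsg.Spor.BabyMonster = 4154781481226426191177580544000000 := BM.KHAll.card_B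
  have hfin : Finite Cfsg.Spor.BabyMonster := Nat.finite_of_card_ne_zero (by rw [hcard]; norm_num)
  obtain ⟨T', e', -, -, hloc', -, hdvd⟩ := loc_push j hj (by rw [hcard]; norm_num) hloc
  refine ⟨Cfsg.Spor.BabyMonster, inferInstance, hfin, T', e', hloc', ?_, h128.trans hdvd⟩
  exact (E.three_dvd hfin w3 ha hb hc hd hv hne).trans
    (relIndex_dvd_autN E.card_grp E.v5 E.v_mem (fun x hx y hy => E.comm hx hy))

end Cfsg.Agent.H913.Q5
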