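import Cfsg.Agent.H913.Q5.BWords
import Cfsg.Agent.H913.Q5.ExtraFive

/-!
# The group `5^{1+4}` and the element of order 3 in the Baby Monster
-/

set_option autoImplicit false

namespace Cfsg.Agent.H913.Q5.BW

open Cfsg.Agent.Monster.VecEngine Cfsg.Agent.BabyM.Conc Cfsg.Agent.BabyM.WordsInst Cfsg.Agent.BM.StageW
open Cfsg.Agent.BabyM.Inst Cfsg.Agent.BabyM Cfsg.Agent.H863.SKer Cfsg.Agent.H863.BVec Cfsg.Agent.H863.BRed
open Cfsg.Agent.Monster.VecSpace

theorem eqc {v w : List Ltr} (h : chk v w = true) : Wg v = Wg w :=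
  eq_of_chk Instance.all Instance.ok h

theorem z_ne : Wg wz ≠ 1 := by
  intro h
  obtain ⟨z, hz, hk⟩ := dl_W k_ne
  have h1 : W wz = 1 := congrArg Subtype.val h
  rw [h1] at hz
  have h2 := up_inj (show up ℚ (zv vB) = up ℚ (zv vB - zv z) from hz)
  have h3 : zv z = 0 := by
    have := congrArg (fun x => zv vB - x) h2
    simpa using this.symm
  have h4 := rd_spec hk
  have h5 : zv z ⟨14, by decide +kernel⟩ = 0 := by rw [h3]; rfl
  have h6 : val z 14 = 0 := h5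
  rw [h6] at h4
  norm_num at h4

/-- the element `q ^ w` -/
noncomputable def gr : M.G := Wg (wi ++ wq ++ ww)

theorem w_inv : Wg wi = (Wg ww)⁻¹ := by
  have h := eqc k_wi
  rw [Wg_append, Wg_nil] at h
  exact eq_inv_of_mul_eq_one_right h

theorem conj_w (x : List Ltr) : Wg (wi ++ x ++ ww) = Wg ww * Wg x * (Wg ww)⁻¹ := by
  rw [Wg_append, Wg_append, w_inv, mul_assoc]

theorem gr_eq : gr = Wg ww * Wg wq * (Wg ww)⁻¹ := conj_w _

theorem five {v : List Ltr} (h : chk (v ++ v ++ v ++ v ++ v) [] = true) : Wg v ^ 5 = 1 := by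
  have := eqc h
  rw [Wg_append, Wg_append, Wg_append, Wg_append, Wg_nil] at this
  rw [← this]
  simp only [pow_succ, pow_zero, one_mul, mul_assoc]

theorem zr : gr * Wg wz = Wg wz * gr := by
  have h1 : Wg wq * Wg wz = Wg wz * Wg wq := by
    have := eqc k_qz
    rwa [Wg_append, Wg_append] at this
  have h2 : Wg ww * Wg wz * (Wg ww)⁻¹ = Wg wz := by
    rw [← conj_w]; exact eqc k_wz
  rw [gr_eq]
  calc Wg ww * Wg wq * (Wg ww)⁻¹ * Wg wz = Wg ww * Wg wq * (Wg ww)⁻¹ * (Wg ww * Wg wz * (Wg ww)⁻¹) := by rw [h2]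
    _ = Wg ww * (Wg wq * Wg wz) * (Wg ww)⁻¹ := by group
    _ = Wg ww * (Wg wz * Wg wq) * (Wg ww)⁻¹ := by rw [h1]
    _ = Wg ww * Wg wz * (Wg ww)⁻¹ * (Wg ww * Wg wq * (Wg ww)⁻¹) := by group
    _ = Wg wz * (Wg ww * Wg wq * (Wg ww)⁻¹) := by rw [h2]

/-- the data -/
theorem ext : Ext5 (Wg wz) (Wg wb) (Wg wa) gr (Wg wq) 1 1 where
  v_ne := z_ne
  v5 := five k_z5
  a5 := five k_b5
  b5 := five k_a5
  c5 := by rw [gr_eq, conj_pow, five k_q5, mul_one, mul_inv_cancel]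
  d5 := five k_q5
  av := by have := eqc k_bz; rwa [Wg_append, Wg_append] at this
  bv := by have := eqc k_az; rwa [Wg_append, Wg_append] at this
  cv := zr
  dv := by have := eqc k_qz; rwa [Wg_append, Wg_append] at this
  k5 := by norm_num
  l5 := by norm_num
  ab := by
    have := eqc k_ab
    rw [Wg_append, Wg_append, Wg_append] at this
    rw [zpow_one, this, mul_assoc]
  cd := by
    have := eqc k_qr
    rw [Wg_append, Wg_append _ wz, Wg_append _ wq] at this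
    rw [zpow_one, mul_assoc]
    exact this
  ac := by have := eqc k_rb; rw [Wg_append, Wg_append _ wb] at this; exact this.symm
  ad := by have := eqc k_qb; rw [Wg_append, Wg_append] at this; exact this.symm
  bc := by have := eqc k_ra; rw [Wg_append, Wg_append _ wa] at this; exact this.symm
  bd := by have := eqc k_qa; rw [Wg_append, Wg_append] at this; exact this.symm

theorem w_three : Wg ww ^ 3 = 1 := by
  have := eqc k_w3
  rw [Wg_append, Wg_append, Wg_nil] at this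
  rw [← this]
  simp only [pow_succ, pow_zero, one_mul, mul_assoc]

theorem w_a : Wg ww * Wg wa * (Wg ww)⁻¹ = Wg wb ^ 2 * Wg wa ^ 4 := by
  have := eqc k_wa
  rw [conj_w, Wg_append, Wg_append, Wg_append, Wg_append, Wg_append] at this
  rw [this]
  simp only [pow_succ, pow_zero, one_mul, mul_assoc]

theorem w_b : Wg ww * Wg wb * (Wg ww)⁻¹ = Wg wz ^ 4 * Wg wa ^ 2 := by
  have := eqc k_wb
  rw [conj_w, Wg_append, Wg_append, Wg_append, Wg_append, Wg_append] at this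
  rw [this]
  simp only [pow_succ, pow_zero, one_mul, mul_assoc]

theorem w_z : Wg ww * Wg wz * (Wg ww)⁻¹ = Wg wz := by
  rw [← conj_w]
  exact eqc k_wz

theorem w_r : Wg ww * gr * (Wg ww)⁻¹ = Wg wz ^ 2 * gr⁻¹ * (Wg wq)⁻¹ := by
  have e1 : Wg ((wi ++ wq ++ ww) ++ wq ++ (wi ++ (wi ++ wq ++ ww) ++ ww)) =
      (Wg ww * gr * (Wg ww)⁻¹) * (Wg wq * gr) := by
    rw [Wg_append, conj_w, Wg_append (wi ++ wq ++ ww) wq]
    rfl
  have h : Wg ww * gr * (Wg ww)⁻¹ * (Wg wq * gr) = Wg wz * Wg wz := by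
    rw [← e1, ← Wg_append]
    exact eqc k_wr
  rw [pow_two, ← h]
  group

theorem w_ne : Wg ww * Wg wb ≠ Wg wb * Wg ww := by
  intro h
  have h1 : Wg ww * Wg wb * (Wg ww)⁻¹ = Wg wb := by rw [h, mul_inv_cancel_right]
  rw [w_b] at h1
  have h2 : Commute (Wg wb) (Wg wa) := by
    rw [← h1]
    exact ((ext.bv.symm).pow_left 4).mul_left ((Commute.refl _).pow_left 2)
  have h3 := ext.ab
  rw [h2.eq, zpow_one, mul_assoc] at h3
  exact z_ne (mul_right_cancel (h3.symm.trans (one_mul _).symm))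

theorem main : ∃ (v a b c d w : M.G) (κ l : ℤ) (E : Ext5 v a b c d κ l), w ^ 3 = 1 ∧
    w * a * w⁻¹ ∈ E.grp ∧ w * b * w⁻¹ ∈ E.grp ∧ w * c * w⁻¹ ∈ E.grp ∧ w * d * w⁻¹ ∈ E.grp ∧
    w * v * w⁻¹ ∈ E.grp ∧ w * a ≠ a * w := by
  refine ⟨_, _, _, _, _, Wg ww, _, _, ext, w_three, ?_, ?_, ?_, ?_, ?_, w_ne⟩
  · rw [w_b]
    exact mul_mem (pow_mem ext.v_mem _) (pow_mem ext.b_mem _)
  · rw [w_a]
    exact mul_mem (pow_mem ext.a_mem _) (pow_mem ext.b_mem _)
  · rw [w_r]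
    exact mul_mem (mul_mem (pow_mem ext.v_mem _) (inv_mem ext.c_mem)) (inv_mem ext.d_mem)
  · rw [← gr_eq]
    exact ext.c_mem
  · rw [w_z]
    exact ext.v_mem

end Cfsg.Agent.H913.Q5.BW

namespace Cfsg.Agent.H913.Q5.Ext5

variable {G H : Type*} [Group G] [Group H] {v a b c d : G} {κ l : ℤ}

theorem map (E : Ext5 v a b c d κ l) (f : G →* H) (hf : Function.Injective f) :
    Ext5 (f v) (f a) (f b) (f c) (f d) κ l where
  v_ne h := E.v_ne (hf (by rw [h, map_one]))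
  v5 := by rw [← map_pow, E.v5, map_one]
  a5 := by rw [← map_pow, E.a5, map_one]
  b5 := by rw [← map_pow, E.b5, map_one]
  c5 := by rw [← map_pow, E.c5, map_one]
  d5 := by rw [← map_pow, E.d5, map_one]
  av := E.av.map f
  bv := E.bv.map f
  cv := E.cv.map f
  dv := E.dv.map f
  k5 := E.k5
  l5 := E.l5
  ab := by rw [← map_mul, E.ab, map_mul, map_mul, map_zpow]
  cd := by rw [← map_mul, E.cd, map_mul, map_mul, map_zpow]
  ac := E.ac.map f
  ad := E.ad.map f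
  bc := E.bc.map f
  bd := E.bd.map f

theorem mem_map (E : Ext5 v a b c d κ l) (f : G →* H) (hf : Function.Injective f) {w x : G}
    (hx : w * x * w⁻¹ ∈ E.grp) : f w * f x * (f w)⁻¹ ∈ (E.map f hf).grp := by
  obtain ⟨y, hy⟩ := hx
  refine ⟨y, ?_⟩
  rw [← map_inv, ← map_mul, ← map_mul, ← hy]
  simp only [nf, map_mul, map_zpow]

end Cfsg.Agent.H913.Q5.Ext5

namespace Cfsg.Agent.H913.Q5

/-- **The words in the Baby Monster** (hypothesis `hB` of `stRowB_of`) -/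
theorem exists_B : ∃ (v a b c d w : Cfsg.Spor.BabyMonster) (κ l : ℤ) (E : Ext5 v a b c d κ l), w ^ 3 = 1 ∧
    w * a * w⁻¹ ∈ E.grp ∧ w * b * w⁻¹ ∈ E.grp ∧ w * c * w⁻¹ ∈ E.grp ∧ w * d * w⁻¹ ∈ E.grp ∧
    w * v * w⁻¹ ∈ E.grp ∧ w * a ≠ a * w := by
  obtain ⟨v, a, b, c, d, w, κ, l, E, w3, ha, hb, hc, hd, hv, hne⟩ := BW.main
  let f := BM.KHAll.iso.symm.toMonoidHom
  have hf : Function.Injective f := BM.KHAll.iso.symm.injective
  refine ⟨f v, f a, f b, f c, f d, f w, κ, l, E.map f hf, ?_, E.mem_map f hf ha, E.mem_map f hf hb,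
    E.mem_map f hf hc, E.mem_map f hf hd, E.mem_map f hf hv, ?_⟩
  · rw [← map_pow, w3, map_one]
  · intro h
    rw [← map_mul, ← map_mul] at h
    exact hne (hf h)

end Cfsg.Agent.H913.Q5
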