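import Cfsg.Agent.H863.SKer

/-!
# Words in the concrete Baby Monster: `5^{1+4}` and an element of order 3 normalizing it

Found with the kit of helper840 (`tools/h840_bm`): `wa, wb` generate a Sylow 5-subgroup of the centralizer of the letter `z`,
`wz` its centre, `wq` is inverted by `z` and commutes with `wa, wb`, `ww` of order 3 normalizes `<wa, wb>`.
-/

set_option autoImplicit false
set_option Elab.async false

namespace Cfsg.Agent.H913.Q5.BW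

open Cfsg.Agent.Monster.VecEngine Cfsg.Agent.BabyM.Conc Cfsg.Agent.BabyM.WordsInst Cfsg.Agent.BM.StageW
open Cfsg.Agent.BabyM.Inst Cfsg.Agent.BabyM Cfsg.Agent.H863.SKer

/-- the word `wa` -/
def wa : List Ltr :=
  [.X0, .X4, .X5, .X10, .Z1, .Z2, .Z3, .Z4, .Z8, .Z10, .xii, .p5, .hi, .p4, .hi, .p, .hi, .p3, .y9, .xii, .y9,
   .p3, .y9, .xii, .y9, .p3, .y9, .xi, .y9, .p10, .h, .p7, .y7, .y5, .p8]

/-- the word `wb` -/
def wb : List Ltr :=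
  [.X10, .Z5, .Z6, .Z8, .Z10, .z, .p5, .y1, .y7, .p7, .y9, .h, .xi, .hi, .y7, .p4, .y5, .h, .p7, .hi, .p2, .y8,
   .xi, .y9, .p9, .h, .p6]

/-- the word `wz` -/
def wz : List Ltr :=
  [.X0, .X1, .X5, .X6, .X7, .X8, .Z1, .Z4, .Z8, .Z9, .z, .p2, .xii, .p3, .hi, .p4, .hi, .p7, .h, .p8, .xii, .p,
   .h, .p7, .h, .p3, .hi, .p9, .hi, .p10, .y8, .xi, .p2, .xii, .y5, .p6]

/-- the word `ww` -/
def ww : List Ltr :=
  [.X1, .X2, .X3, .X4, .X5, .X6, .X7, .Z0, .Z2, .Z3, .Z4, .Z7, .Z8, .Z9, .p10, .hi, .p7, .hi, .p4, .hi, .xi, .p4,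
   .y4, .p, .xii, .hi, .p5, .h, .p3, .hi, .p10, .y4, .xi, .hi, .xi, .p9, .y6, .xii]

/-- the word `wq` -/
def wq : List Ltr :=
  [.z, .tau, .hi, .xii, .p7, .xi, .taui, .p6, .X10, .xii, .Z0, .Z3, .Z7, .Z8, .Z9, .h, .p2, .h, .p8, .hi, .p2,
   .hi, .p, .hi, .p8, .h, .p5, .xi, .X10, .p5, .tau, .xii, .p4, .xi, .h, .taui, .z, .tau, .hi, .xii, .p7, .xi,
   .taui, .p6, .X10, .xii, .Z0, .Z3, .Z7, .Z8, .Z9, .h, .p2, .h, .p8, .hi, .p2, .hi, .p, .hi, .p8, .h, .p5, .xi,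
   .X10, .p5, .tau, .xii, .p4, .xi, .h, .taui, .z, .tau, .hi, .xii, .p7, .xi, .taui, .p6, .X10, .xii, .Z0, .Z3,
   .Z7, .Z8, .Z9, .h, .p2, .h, .p8, .hi, .p2, .hi, .p, .hi, .p8, .h, .p5, .Z0, .Z9, .p3, .hi, .p3, .h, .p8, .hi,
   .p2, .h, .p6, .hi, .p4, .hi, .p3, .hi, .Z0, .Z9, .p3, .hi, .p3, .h, .p8, .hi, .p2, .h, .p6, .hi, .p4, .hi, .p3,
   .hi, .p6, .hi, .p3, .h, .p10, .h, .p9, .h, .p3, .hi, .p9, .hi, .Z9, .Z8, .Z7, .Z3, .Z0, .xi, .X10, .p5, .tau,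
   .xii, .p4, .xi, .h, .taui, .z, .tau, .hi, .xii, .p7, .xi, .taui, .p6, .X10, .xii, .p6, .hi, .p3, .h, .p10, .h,
   .p9, .h, .p3, .hi, .p9, .hi, .Z9, .Z8, .Z7, .Z3, .Z0, .xi, .X10, .p5, .tau, .xii, .p4, .xi, .h, .taui, .z,
   .tau, .hi, .xii, .p7, .xi, .taui, .p6, .X10, .xii, .p6, .hi, .p3, .h, .p10, .h, .p9, .h, .p3, .hi, .p9, .hi,
   .Z9, .Z8, .Z7, .Z3, .Z0, .xi, .X10, .p5, .tau, .xii, .p4, .xi, .h, .taui, .z]

/-- the inverse of `ww` -/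
def wi : List Ltr :=
  [.xi, .y6, .p2, .xii, .h, .xii, .y4, .p, .h, .p8, .hi, .p6, .h, .xi, .p10, .y4, .p7, .xii, .h, .p7, .h, .p4, .h,
   .p, .Z9, .Z8, .Z7, .Z4, .Z3, .Z2, .Z0, .X7, .X6, .X5, .X4, .X3, .X2, .X1]

theorem k_a5 : chk (wa ++ wa ++ wa ++ wa ++ wa) [] = true := by decide +kernel
theorem k_b5 : chk (wb ++ wb ++ wb ++ wb ++ wb) [] = true := by decide +kernel
theorem k_z5 : chk (wz ++ wz ++ wz ++ wz ++ wz) [] = true := by decide +kernel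
theorem k_q5 : chk (wq ++ wq ++ wq ++ wq ++ wq) [] = true := by decide +kernel
theorem k_az : chk (wz ++ wa) (wa ++ wz) = true := by decide +kernel
theorem k_bz : chk (wz ++ wb) (wb ++ wz) = true := by decide +kernel
theorem k_qz : chk (wz ++ wq) (wq ++ wz) = true := by decide +kernel
theorem k_ab : chk (wa ++ wb) (wb ++ wa ++ wz) = true := by decide +kernel
theorem k_qa : chk (wa ++ wq) (wq ++ wa) = true := by decide +kernel
theorem k_qb : chk (wb ++ wq) (wq ++ wb) = true := by decide +kernel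
theorem k_ra : chk (wa ++ (wi ++ wq ++ ww)) (wi ++ wq ++ ww ++ wa) = true := by decide +kernel
theorem k_rb : chk (wb ++ (wi ++ wq ++ ww)) (wi ++ wq ++ ww ++ wb) = true := by decide +kernel
theorem k_qr : chk (wq ++ (wi ++ wq ++ ww)) ((wi ++ wq ++ ww) ++ wq ++ wz) = true := by decide +kernel
theorem k_wi : chk (wi ++ ww) [] = true := by decide +kernel
theorem k_w3 : chk (ww ++ ww ++ ww) [] = true := by decide +kernel
theorem k_wa : chk (wi ++ wa ++ ww) (wa ++ wa ++ wa ++ wa ++ (wb ++ wb)) = true := by decide +kernel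
theorem k_wb : chk (wi ++ wb ++ ww) (wa ++ wa ++ (wz ++ wz ++ wz ++ wz)) = true := by decide +kernel
theorem k_wz : chk (wi ++ wz ++ ww) wz = true := by decide +kernel
theorem k_wr : chk ((wi ++ wq ++ ww) ++ wq ++ (wi ++ (wi ++ wq ++ ww) ++ ww)) (wz ++ wz) = true := by decide +kernel
theorem k_ne : dl (wz.map Ltr.prog) vB (fun y => rd y 14 1 0 2304) = true := by decide +kernel

end Cfsg.Agent.H913.Q5.BW
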