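import Cfsg.Agent.H913.Q5.Push
import Cfsg.Agent.H913.GT.Tor
import Cfsg.Agent.H103.GT.Grp

/-!
# S5211, block q = 5: the local data of `G₂(5)`
-/

set_option autoImplicit false

namespace Cfsg.Agent.H913.Q5

open Cfsg Cfsg.Agent.H24.Q5 Cfsg.Agent.H779.G2

/-- the hypotheses on the field -/
theorem hyp5 : HypG (ZMod 5) 5 1 where
  pp := by norm_num
  hn := le_rfl
  fin := inferInstance
  card := by rw [Nat.card_zmod, pow_one]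
  char := inferInstance

theorem isPGroup_U5 : IsPGroup 5 U5 := IsPGroup.of_card card_U5

/-- the Sylow 5-subgroup -/
noncomputable def T0 : Sylow 5 (Cfsg.Lie.G2 (ZMod 5)) :=
  IsPGroup.toSylow (P := (GT.emb : U5 →* Cfsg.Lie.G2 (ZMod 5)).range)
    (isPGroup_U5.of_surjective (GT.emb : U5 →* Cfsg.Lie.G2 (ZMod 5)).rangeRestrict
      (MonoidHom.rangeRestrict_surjective _)) (GT.not_dvd_index hyp5)

/-- the isomorphism with `U5` -/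
noncomputable def e0 : (T0 : Subgroup (Cfsg.Lie.G2 (ZMod 5))) ≃* U5 :=
  (MonoidHom.ofInjective (f := (GT.emb : U5 →* Cfsg.Lie.G2 (ZMod 5))) GT.emb_injective).symm

theorem coe_e0_symm (u : U5) : ((e0.symm u : (T0 : Subgroup (Cfsg.Lie.G2 (ZMod 5)))) : Cfsg.Lie.G2 (ZMod 5)) = GT.emb u :=
  rfl

theorem e0_of_eq {x : (T0 : Subgroup (Cfsg.Lie.G2 (ZMod 5)))} {u : U5} (h : (x : Cfsg.Lie.G2 (ZMod 5)) = GT.emb u) :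
    e0 x = u := by
  rw [← e0.apply_symm_apply u]
  congr 1
  apply Subtype.ext
  rw [h, coe_e0_symm]

theorem eq_emb (x : (T0 : Subgroup (Cfsg.Lie.G2 (ZMod 5)))) : (x : Cfsg.Lie.G2 (ZMod 5)) = GT.emb (e0 x) := by
  rw [← coe_e0_symm, e0.symm_apply_apply]

/-- the local data of `G₂(5)` -/
theorem loc_T0 : Loc (Cfsg.Lie.G2 (ZMod 5)) T0 e0 := by
  obtain ⟨γ, hγ⟩ := H103.GT.exists_wa (K := ZMod 5)
  obtain ⟨δ, hδ⟩ := H103.GT.exists_wb (K := ZMod 5)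
  have ha : ∀ x : (T0 : Subgroup (Cfsg.Lie.G2 (ZMod 5))), e0 x ∈ A5 →
      ∃ y : (T0 : Subgroup (Cfsg.Lie.G2 (ZMod 5))), (y : Cfsg.Lie.G2 (ZMod 5)) =
        GT.na * (x : Cfsg.Lie.G2 (ZMod 5)) * (GT.na)⁻¹ ∧ e0 y ∈ A5 := by
    intro x hx
    refine ⟨e0.symm ((γ ⟨e0 x, hx⟩ : A5) : U5), ?_, ?_⟩
    · rw [coe_e0_symm, ← GT.na_emb hγ, eq_emb x]
    · rw [e0.apply_symm_apply]
      exact (γ ⟨e0 x, hx⟩).2
  have hu : (⟨0, 0, 0, 0, 1, 0⟩ : U5) ∈ A5 := rfl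
  have hg : ((γ ⟨(⟨0, 0, 0, 0, 1, 0⟩ : U5), hu⟩ : A5) : U5).b = 1 := hγ.b _
  have hxy : ((e0.symm ((γ ⟨(⟨0, 0, 0, 0, 1, 0⟩ : U5), hu⟩ : A5) : U5) : (T0 : Subgroup (Cfsg.Lie.G2 (ZMod 5)))) :
      Cfsg.Lie.G2 (ZMod 5)) = GT.na * ((e0.symm (⟨0, 0, 0, 0, 1, 0⟩ : U5) :
        (T0 : Subgroup (Cfsg.Lie.G2 (ZMod 5)))) : Cfsg.Lie.G2 (ZMod 5)) * (GT.na)⁻¹ := by
    rw [coe_e0_symm, coe_e0_symm, ← GT.na_emb hγ]
  refine ⟨⟨GT.na, ha, _, _, ?_, hxy, ?_⟩, ⟨GT.na, ha, _, _, ?_, hxy, ?_⟩, ⟨GT.nb,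
    e0.symm (⟨0, 0, 0, 0, 0, 1⟩ : U5), e0.symm ((δ ⟨(⟨0, 0, 0, 0, 0, 1⟩ : U5), rfl⟩ : B5) : U5), ?_, ?_, ?_⟩⟩
  · rw [e0.apply_symm_apply]
    exact ⟨rfl, rfl, rfl, rfl⟩
  · rw [e0.apply_symm_apply]
    rintro ⟨-, h, -⟩
    rw [hg] at h
    exact one_ne_zero h
  · rw [e0.apply_symm_apply]
    exact ⟨rfl, rfl, rfl⟩
  · rw [e0.apply_symm_apply]
    rintro ⟨-, h, -⟩
    rw [hg] at h
    exact one_ne_zero h
  · rw [e0.apply_symm_apply]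
    exact ⟨rfl, rfl, rfl, rfl, rfl⟩
  · rw [coe_e0_symm, coe_e0_symm, ← GT.nb_emb hδ]
  · rw [e0.apply_symm_apply]
    rintro ⟨-, -, -, -, h⟩
    have h1 := hδ.e ⟨(⟨0, 0, 0, 0, 0, 1⟩ : U5), rfl⟩
    rw [h] at h1
    revert h1
    decide

end Cfsg.Agent.H913.Q5
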