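import Cfsg.Agent.H24.Q5.Fus

/-!
# S5211, block q = 5: transfer of the local data along an injective homomorphism
-/

set_option autoImplicit false

namespace Cfsg.Agent.H913.Q5

open Cfsg Cfsg.Agent.H24.Q5 Cfsg.Agent.H779.G2

theorem card_U5 : Nat.card U5 = 5 ^ 6 := by
  rw [GU.card_eq, Nat.card_zmod]

theorem mem_QG {G : Type} [Group G] {T : Sylow 5 G} {e : (T : Subgroup G) ≃* U5} {g : G} :
    g ∈ QG T e ↔ ∃ x : (T : Subgroup G), e x ∈ A5 ∧ (x : G) = g := by
  rw [QG, Subgroup.mem_map]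
  exact Iff.rfl

/-- the order of the automizer divides the order of the automizer in a bigger group -/
theorem relIndex_dvd {G H : Type*} [Group G] [Group H] (j : G →* H) (hj : Function.Injective j) (Q : Subgroup G) :
    (Subgroup.centralizer (Q : Set G)).relIndex (Subgroup.normalizer (Q : Set G)) ∣
      (Subgroup.centralizer ((Q.map j : Subgroup H) : Set H)).relIndex
        (Subgroup.normalizer ((Q.map j : Subgroup H) : Set H)) := by
  have hC : (Subgroup.centralizer ((Q.map j : Subgroup H) : Set H)).comap j = Subgroup.centralizer (Q : Set G) := by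
    ext g
    rw [Subgroup.mem_comap, Subgroup.mem_centralizer_iff, Subgroup.mem_centralizer_iff]
    constructor
    · intro h x hx
      apply hj
      rw [map_mul, map_mul]
      exact h (j x) ⟨x, hx, rfl⟩
    · rintro h _ ⟨x, hx, rfl⟩
      rw [← map_mul, ← map_mul, h x hx]
  have hN : (Subgroup.normalizer (Q : Set G)).map j ≤ Subgroup.normalizer ((Q.map j : Subgroup H) : Set H) := by
    rintro _ ⟨g, hg, rfl⟩
    rw [SetLike.mem_coe, Subgroup.mem_normalizer_iff] at hg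
    rw [Subgroup.mem_normalizer_iff]
    intro y
    constructor
    · rintro ⟨x, hx, rfl⟩
      exact ⟨g * x * g⁻¹, (hg x).1 hx, by rw [map_mul, map_mul, map_inv]⟩
    · rintro ⟨x, hx, hxy⟩
      refine ⟨g⁻¹ * x * g, ?_, ?_⟩
      · refine (hg _).2 ?_
        have : g * (g⁻¹ * x * g) * g⁻¹ = x := by group
        rw [this]
        exact hx
      · rw [map_mul, map_mul, map_inv, hxy]
        group
  rw [← hC, Subgroup.relIndex_comap]
  set N' : Subgroup H := Subgroup.normalizer ((Q.map j : Subgroup H) : Set H) with hN'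
  set C' : Subgroup H := Subgroup.centralizer ((Q.map j : Subgroup H) : Set H) with hC'
  have hnorm : (C'.subgroupOf N').Normal := by
    rw [hN', hC']
    infer_instance
  have h1 := Subgroup.relIndex_dvd_index_of_normal (C'.subgroupOf N')
    (((Subgroup.normalizer (Q : Set G)).map j).subgroupOf N')
  rw [Subgroup.relIndex_subgroupOf hN] at h1
  exact h1

variable {G H : Type} [Group G] [Group H]

/-- **Transfer of the local data.** `j : G → H` injective, `5⁷` does not divide `|H|`. -/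
theorem loc_push [Finite H] (j : G →* H) (hj : Function.Injective j) (hH : ¬ 5 ^ 7 ∣ Nat.card H) {T : Sylow 5 G}
    {e : (T : Subgroup G) ≃* U5} (h : Loc G T e) :
    ∃ (T' : Sylow 5 H) (e' : (T' : Subgroup H) ≃* U5), (T' : Subgroup H) = (T : Subgroup G).map j ∧
      (∀ (x : (T : Subgroup G)) (y : (T' : Subgroup H)), (y : H) = j x → e' y = e x) ∧ Loc H T' e' ∧
      QG T' e' = (QG T e).map j ∧ autN T e ∣ autN T' e' := by
  have hcT : Nat.card ((T : Subgroup G).map j) = 5 ^ 6 := by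
    rw [Subgroup.card_map_of_injective hj, Nat.card_congr e.toEquiv, card_U5]
  have hp : IsPGroup 5 ((T : Subgroup G).map j) := IsPGroup.of_card hcT
  have hidx : ¬ 5 ∣ ((T : Subgroup G).map j).index := by
    intro hd
    apply hH
    rw [← ((T : Subgroup G).map j).card_mul_index, hcT, show (5 : ℕ) ^ 7 = 5 ^ 6 * 5 by norm_num]
    exact Nat.mul_dvd_mul_left _ hd
  let T' : Sylow 5 H := hp.toSylow hidx
  let m : (T : Subgroup G) ≃* ((T : Subgroup G).map j) := (T : Subgroup G).equivMapOfInjective j hj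
  let e' : (T' : Subgroup H) ≃* U5 := m.symm.trans e
  have hm : ∀ (x : (T : Subgroup G)) (y : (T' : Subgroup H)), (y : H) = j x → e' y = e x := by
    intro x y hxy
    have : y = m x := Subtype.ext hxy
    rw [this]
    show e (m.symm (m x)) = e x
    rw [MulEquiv.symm_apply_apply]
  have hmem : ∀ x : (T : Subgroup G), j x ∈ (T' : Subgroup H) := fun x => ⟨x, x.2, rfl⟩
  have hsurj : ∀ y : (T' : Subgroup H), ∃ x : (T : Subgroup G), (y : H) = j x := by
    rintro ⟨y, x, hx, rfl⟩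
    exact ⟨⟨x, hx⟩, rfl⟩
  -- the transfer of a conjugation statement
  have key : ∀ (g : G) (Z : Subgroup U5),
      ((∀ x : (T : Subgroup G), e x ∈ A5 → ∃ y : (T : Subgroup G), (y : G) = g * x * g⁻¹ ∧ e y ∈ A5) ∧
        ∃ x y : (T : Subgroup G), e x ∈ Z ∧ (y : G) = g * x * g⁻¹ ∧ e y ∉ Z) →
      ((∀ x : (T' : Subgroup H), e' x ∈ A5 → ∃ y : (T' : Subgroup H), (y : H) = j g * x * (j g)⁻¹ ∧ e' y ∈ A5) ∧
        ∃ x y : (T' : Subgroup H), e' x ∈ Z ∧ (y : H) = j g * x * (j g)⁻¹ ∧ e' y ∉ Z) := by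
    rintro g Z ⟨h1, x, y, hx, hxy, hy⟩
    constructor
    · intro x' hx'
      obtain ⟨x₀, hx₀⟩ := hsurj x'
      rw [hm _ _ hx₀] at hx'
      obtain ⟨y₀, hy₀, hy₀'⟩ := h1 x₀ hx'
      refine ⟨⟨j y₀, hmem y₀⟩, ?_, ?_⟩
      · show j y₀ = _
        rw [hy₀, hx₀, map_mul, map_mul, map_inv]
      · rw [hm y₀ _ rfl]
        exact hy₀'
    · refine ⟨⟨j x, hmem x⟩, ⟨j y, hmem y⟩, ?_, ?_, ?_⟩
      · rw [hm x _ rfl]
        exact hx
      · show j y = j g * j x * (j g)⁻¹
        rw [hxy, map_mul, map_mul, map_inv]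
      · rw [hm y _ rfl]
        exact hy
  have hQ : QG T' e' = (QG T e).map j := by
    ext y
    rw [mem_QG, Subgroup.mem_map]
    constructor
    · rintro ⟨x, hx, rfl⟩
      obtain ⟨x₀, hx₀⟩ := hsurj x
      rw [hm _ _ hx₀] at hx
      exact ⟨x₀, mem_QG.2 ⟨x₀, hx, rfl⟩, hx₀.symm⟩
    · rintro ⟨_, hx, rfl⟩
      obtain ⟨x₀, hx₀, rfl⟩ := mem_QG.1 hx
      exact ⟨⟨j x₀, hmem x₀⟩, by rw [hm x₀ _ rfl]; exact hx₀, rfl⟩
  refine ⟨T', e', rfl, hm, ⟨?_, ?_, ?_⟩, hQ, ?_⟩
  · obtain ⟨g, hg⟩ := h.a1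
    exact ⟨j g, key g _ hg⟩
  · obtain ⟨g, hg⟩ := h.a2
    exact ⟨j g, key g _ hg⟩
  · obtain ⟨g, x, y, hx, hxy, hy⟩ := h.b
    refine ⟨j g, ⟨j x, hmem x⟩, ⟨j y, hmem y⟩, ?_, ?_, ?_⟩
    · rw [hm x _ rfl]
      exact hx
    · show j y = j g * j x * (j g)⁻¹
      rw [hxy, map_mul, map_mul, map_inv]
    · rw [hm y _ rfl]
      exact hy
  · rw [autN, autN, hQ]
    exact relIndex_dvd j hj _

/-- a row from a smaller group -/
theorem row_push [Finite H] (j : G →* H) (hj : Function.Injective j) (hH : ¬ 5 ^ 7 ∣ Nat.card H) {T : Sylow 5 G}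
    {e : (T : Subgroup G) ≃* U5} (h : Loc G T e) {P : ℕ → Prop}
    (hP : ∀ n, (Subgroup.centralizer (((QG T e).map j : Subgroup H) : Set H)).relIndex
      (Subgroup.normalizer (((QG T e).map j : Subgroup H) : Set H)) = n → autN T e ∣ n → P n) : Row P := by
  obtain ⟨T', e', -, -, h1, h2, h3⟩ := loc_push j hj hH h
  refine ⟨H, inferInstance, inferInstance, T', e', h1, hP _ ?_ h3⟩
  rw [autN, h2]

end Cfsg.Agent.H913.Q5
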