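import Cfsg.Agent.H913.Q5.Push
import Cfsg.Agent.H35.Q5.EqA

/-!
# S5211, block q = 5: recognition of `Q_a` in a finite group
-/

set_option autoImplicit false

namespace Cfsg.Agent.H913.Q5

open Cfsg Cfsg.Agent.H24.Q5 Cfsg.Agent.H779.G2

variable {G : Type} [Group G] [Finite G] {T : Sylow 5 G} {e : (T : Subgroup G) ≃* U5}

/-- a 5-subgroup of order `5⁵` of `T` with commutators in a group of order 5 is `Q_a` -/
theorem QG_eq5 {E : Subgroup G} {f : G} (hE : Nat.card E = 3125) (hET : E ≤ (T : Subgroup G)) (hf : f ^ 5 = 1)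
    (hfE : f ∈ E) (hc : ∀ x ∈ E, ∀ y ∈ E, x * y * x⁻¹ * y⁻¹ ∈ Subgroup.zpowers f) : QG T e = E := by
  have hmem : ∀ u : U5, u ∈ (E.subgroupOf (T : Subgroup G)).map e.toMonoidHom ↔
      ((e.symm u : (T : Subgroup G)) : G) ∈ E := by
    intro u
    rw [Subgroup.mem_map_equiv, Subgroup.mem_subgroupOf]
  have hcard : Nat.card ((E.subgroupOf (T : Subgroup G)).map e.toMonoidHom) = 3125 := by
    rw [Subgroup.card_map_of_injective e.injective, Nat.card_congr (Subgroup.subgroupOfEquivOfLe hET).toEquiv, hE]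
  have hM : (E.subgroupOf (T : Subgroup G)).map e.toMonoidHom = A5 := by
    apply H35.Q5.eq_A5 _ _ (e ⟨f, hET hfE⟩)
    · rw [← map_pow, show (⟨f, hET hfE⟩ : (T : Subgroup G)) ^ 5 = 1 from Subtype.ext hf, map_one]
    · intro x hx y hy
      rw [hmem] at hx hy
      obtain ⟨k, hk⟩ := hc _ hx _ hy
      refine ⟨k, ?_⟩
      show (e ⟨f, hET hfE⟩) ^ k = _
      rw [← map_zpow]
      apply e.symm.injective
      rw [MulEquiv.symm_apply_apply]
      apply Subtype.ext
      rw [map_mul, map_mul, map_mul, map_inv, map_inv]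
      exact hk
    · have h := ((E.subgroupOf (T : Subgroup G)).map e.toMonoidHom).card_mul_index
      rw [hcard, card_U5] at h
      omega
  ext g
  rw [mem_QG, ← hM]
  constructor
  · rintro ⟨x, hx, rfl⟩
    rw [hmem, e.symm_apply_apply] at hx
    exact hx
  · intro hg
    refine ⟨⟨g, hET hg⟩, ?_, rfl⟩
    rw [hmem, e.symm_apply_apply]
    exact hg

/-- every such subgroup is conjugate to `Q_a`, so the order of its automizer divides the order of the automizer of `Q_a` -/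
theorem relIndex_dvd_autN {E : Subgroup G} {f : G} (hE : Nat.card E = 3125) (hf : f ^ 5 = 1)
    (hfE : f ∈ E) (hc : ∀ x ∈ E, ∀ y ∈ E, x * y * x⁻¹ * y⁻¹ ∈ Subgroup.zpowers f) :
    (Subgroup.centralizer (E : Set G)).relIndex (Subgroup.normalizer (E : Set G)) ∣ autN T e := by
  have hE5 : IsPGroup 5 E := IsPGroup.of_card (n := 5) (by rw [hE]; norm_num)
  obtain ⟨T', hT'⟩ := hE5.exists_le_sylow
  obtain ⟨g, hg⟩ := MulAction.exists_smul_eq G T' T
  have hle : E.map (MulAut.conj g).toMonoidHom ≤ (T : Subgroup G) := by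
    rw [← hg]
    rintro _ ⟨x, hx, rfl⟩
    exact ⟨x, hT' hx, rfl⟩
  have hinj : Function.Injective (MulAut.conj g).toMonoidHom := (MulAut.conj g).injective
  have hQ : QG T e = E.map (MulAut.conj g).toMonoidHom := by
    refine QG_eq5 (f := g * f * g⁻¹) ?_ hle ?_ ⟨f, hfE, rfl⟩ ?_
    · rw [Subgroup.card_map_of_injective hinj, hE]
    · rw [conj_pow, hf, mul_one, mul_inv_cancel]
    · rintro _ ⟨x, hx, rfl⟩ _ ⟨y, hy, rfl⟩
      obtain ⟨k, hk⟩ := hc x hx y hy
      refine ⟨k, ?_⟩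
      show (g * f * g⁻¹) ^ k = _
      rw [conj_zpow, show f ^ k = x * y * x⁻¹ * y⁻¹ from hk, ← map_inv, ← map_inv, ← map_mul, ← map_mul, ← map_mul]
      rfl
  rw [autN, hQ]
  exact relIndex_dvd _ hinj _

end Cfsg.Agent.H913.Q5
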