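import Cfsg.Agent.H913.Q5.LocG2
import Cfsg.Agent.H35.Q5.LyNine
import Cfsg.Agent.SporRec.LyG2.G14
import Cfsg.Agent.SporRec.LyG2.LyEmb
import Cfsg.Agent.SporRec.LyFiveFinal
import Cfsg.Agent.TypeM.FactsLy

/-!
# S5211, block q = 5: the row of the Lyons group
-/

set_option autoImplicit false

namespace Cfsg.Agent.H913.Q5

open Cfsg Cfsg.Agent.H24.Q5 Cfsg.Agent.H779.G2 Cfsg.Agent.SporRec.LyType Cfsg.Agent.SporRec.LyFive

/-- a 5-subgroup of order `5⁵` with commutators in a group of order 5, in terms of `U5` -/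
theorem QG_eq (hA : ∀ (M : Subgroup U5), M.index = 5 → ∀ z : U5, z ^ 5 = 1 →
      (∀ x ∈ M, ∀ y ∈ M, x * y * x⁻¹ * y⁻¹ ∈ Subgroup.zpowers z) → M = A5)
    {G : Type} [Group G] [Finite G] {T : Sylow 5 G} {e : (T : Subgroup G) ≃* U5} {E : Subgroup G} {f : G}
    (hE : Nat.card E = 3125) (hET : E ≤ (T : Subgroup G)) (hf : f ^ 5 = 1) (hfE : f ∈ E)
    (hc : ∀ x ∈ E, ∀ y ∈ E, x * y * x⁻¹ * y⁻¹ ∈ Subgroup.zpowers f) : QG T e = E := by
  have hmem : ∀ u : U5, u ∈ (E.subgroupOf (T : Subgroup G)).map e.toMonoidHom ↔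
      ((e.symm u : (T : Subgroup G)) : G) ∈ E := by
    intro u
    rw [Subgroup.mem_map_equiv, Subgroup.mem_subgroupOf]
  have hcard : Nat.card ((E.subgroupOf (T : Subgroup G)).map e.toMonoidHom) = 3125 := by
    rw [Subgroup.card_map_of_injective e.injective, Nat.card_congr (Subgroup.subgroupOfEquivOfLe hET).toEquiv, hE]
  have hM : (E.subgroupOf (T : Subgroup G)).map e.toMonoidHom = A5 := by
    apply hA _ _ (e ⟨f, hET hfE⟩)
    · rw [← map_pow, show (⟨f, hET hfE⟩ : (T : Subgroup G)) ^ 5 = 1 from Subtype.ext hf, map_one]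
    · intro x hx y hy
      rw [hmem] at hx hy
      obtain ⟨k, hk⟩ := hc _ hx _ hy
      refine ⟨k, ?_⟩
      show (e ⟨f, hET hfE⟩) ^ k = _
      rw [← map_zpow]
      apply e.symm.injective
      rw [MulEquiv.symm_apply_apply]
      apply Subtype.ext
      rw [map_mul, map_mul, map_mul, map_inv, map_inv]
      exact hk
    · have h := ((E.subgroupOf (T : Subgroup G)).map e.toMonoidHom).card_mul_index
      rw [hcard, card_U5] at h
      omega
  ext g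
  rw [mem_QG, ← hM]
  constructor
  · rintro ⟨x, hx, rfl⟩
    rw [hmem, e.symm_apply_apply] at hx
    exact hx
  · intro hg
    refine ⟨⟨g, hET hg⟩, ?_, rfl⟩
    rw [hmem, e.symm_apply_apply]
    exact hg

theorem exists_hom_ly : ∃ j : Cfsg.Lie.G2 (ZMod 5) →* Cfsg.Spor.Ly, Function.Injective j := by
  obtain ⟨e⟩ := H638.G2Iso.equiv (F := ZMod 5)
  refine ⟨SporRec.LyG2.LyEmb.η.comp (SporRec.LyG2.G14.equivChev.symm.toMonoidHom.comp e.toMonoidHom), ?_⟩
  intro x y h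
  exact e.injective (SporRec.LyG2.G14.equivChev.symm.injective (SporRec.LyG2.LyEmb.η_injective h))

/-- **Row `Ly`**, from the uniqueness of `Q_a` -/
theorem stRowLy_of (hA : ∀ (M : Subgroup U5), M.index = 5 → ∀ z : U5, z ^ 5 = 1 →
      (∀ x ∈ M, ∀ y ∈ M, x * y * x⁻¹ * y⁻¹ ∈ Subgroup.zpowers z) → M = A5) : StRowLy := by
  have hfin : Finite Cfsg.Spor.Ly := Cfsg.Agent.Ly.Setup.finite_ly
  obtain ⟨j, hj⟩ := exists_hom_ly
  obtain ⟨T, e, -, -, hloc, -, -⟩ := loc_push j hj (by rw [Cfsg.Agent.Ly.Setup.card_ly]; norm_num) loc_T0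
  obtain ⟨M⟩ := TypeM.FactsLy.exists_mt_ly
  let L : LyType Cfsg.Spor.Ly := { t := M.t, K := M.K, hz := M.hz, one := M.one }
  obtain ⟨f, hf⟩ := SporRec.LyFiveFinal.exists_five L
  obtain ⟨-, F, -, -⟩ := SporRec.LyFiveFinal.exists_lyFive hf
  have hE : IsPGroup 5 F.E := IsPGroup.of_card (n := 5) (by rw [F.card_E]; norm_num)
  obtain ⟨T', hT'⟩ := hE.exists_le_sylow
  obtain ⟨g, hg⟩ := MulAction.exists_smul_eq Cfsg.Spor.Ly T' T
  have hle : F.E.map (MulAut.conj g).toMonoidHom ≤ (T : Subgroup Cfsg.Spor.Ly) := by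
    rw [← hg]
    rintro _ ⟨x, hx, rfl⟩
    exact ⟨x, hT' hx, rfl⟩
  have hinj : Function.Injective (MulAut.conj g).toMonoidHom := (MulAut.conj g).injective
  have hQ : QG T e = F.E.map (MulAut.conj g).toMonoidHom := by
    refine QG_eq hA (f := g * F.f * g⁻¹) ?_ hle ?_ ⟨F.f, F.f_mem, rfl⟩ ?_
    · rw [Subgroup.card_map_of_injective hinj, F.card_E]
    · rw [conj_pow, F.f_pow, mul_one, mul_inv_cancel]
    · rintro _ ⟨x, hx, rfl⟩ _ ⟨y, hy, rfl⟩
      obtain ⟨k, hk⟩ := F.comm_E x hx y hy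
      refine ⟨k, ?_⟩
      show (g * F.f * g⁻¹) ^ k = _
      rw [conj_zpow, show F.f ^ k = x * y * x⁻¹ * y⁻¹ from hk, ← map_inv, ← map_inv, ← map_mul, ← map_mul, ← map_mul]
      rfl
  refine ⟨Cfsg.Spor.Ly, inferInstance, hfin, T, e, hloc, ?_⟩
  show 9 ∣ autN T e
  rw [autN, hQ]
  exact (H35.Q5.nine_dvd F).trans (relIndex_dvd _ hinj _)

end Cfsg.Agent.H913.Q5
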